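import Cfsg.Agent.Lib.BNPair.Parabolic

/-!
# Tits' simplicity criterion, rank one
-/

set_option autoImplicit false

namespace Cfsg.Agent.BN

variable {G : Type*} [Group G] (P : Cfsg.BNPair G)

theorem parabolic_empty : P.parabolic ∅ = P.B := by
  simp [Cfsg.BNPair.parabolic]

theorem parabolic_S : P.parabolic P.S = ⊤ := by
  rw [eq_top_iff]
  intro g _
  obtain ⟨n, hn, hg⟩ := exists_cell P g
  obtain ⟨L, hL, he⟩ := exists_word P hn
  exact cell_subset_parabolic P
    (inter_N_eqv P he (word_mem _ fun x hx => mem_parabolic_of_mem P (hL x hx))) hg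

/-- For a normal subgroup `H`, the sets `J = {s | s ∈ H B}` and its complement commute modulo `B`. -/
theorem comm_of_normal (H : Subgroup G) [H.Normal] {s s' : G} (hs' : s' ∈ P.S) (hs : s ∈ P.S)
    (hin : s' ∈ H ⊔ P.B) (hout : s ∉ H ⊔ P.B) : s' * s * s'⁻¹ * s⁻¹ ∈ P.B := by
  have hsN := S_mem_N P hs
  have hs'N := S_mem_N P hs'
  have hne : s ≠ s' := fun h => hout (h ▸ hin)
  -- an element of `H` inside `B s' B`
  obtain ⟨h, hh, b, hb, hhb⟩ : ∃ h ∈ H, ∃ b ∈ P.B, h * b = s' := by
    have h0 : s' ∈ (↑(H ⊔ P.B) : Set G) := hin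
    rw [Subgroup.normal_mul] at h0
    obtain ⟨h, hh, b, hb, e⟩ := Set.mem_mul.1 h0
    exact ⟨h, hh, b, hb, e⟩
  have hcell : h ∈ cell P s' := by
    rw [eq_mul_inv_of_mul_eq hhb]
    exact mul_mem_cell_right P (inv_mem hb) (self_mem_cell P s')
  have hss' : len P (s * s') = 2 := by
    have h1 := len_S_mul_le P hs hs'N
    have h2 := len_S_mul_ne P hs hs'N
    rw [len_S P hs'] at h1 h2
    have h3 : len P (s * s') ≠ 0 := fun h0 => hne (P.inj s hs s' hs' (by
      have h4 := P.B.mul_mem (P.B.inv_mem (P.sq_mem s hs)) ((len_eq_zero P (mul_mem hsN hs'N)).1 h0)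
      simpa [mul_assoc] using h4))
    omega
  have hred : Reduced P [s', s] := by
    refine ⟨by simp [IsWord, hs, hs'], ?_⟩
    have e : (s * s')⁻¹ = s'⁻¹ * s⁻¹ := by group
    have h5 : Eqv P (s'⁻¹ * s⁻¹) (s' * s) :=
      eqv_trans P (eqv_mul_left P _ (eqv_S_inv P hs))
        (eqv_mul_right P (eqv_S_inv P hs') (inv_mem hs'N) hs'N hsN)
    simp only [List.prod_cons, List.prod_nil, mul_one, List.length_cons, List.length_nil]
    rw [← len_congr P h5, ← e, len_inv P (mul_mem hsN hs'N), hss']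
  have hn : s' * s ∈ P.N := mul_mem hs'N hsN
  rcases reduced_cons_or P hs hred with h3 | ⟨i, hi, he⟩
  · -- `C(s) C(s') C(s) = C(s s' s)` meets `H`, so `s` is a letter of an element of `H B`
    exfalso
    have hle : len P (s' * s) ≤ len P (s * (s' * s)) := by
      have h4 := h3.2; have h5 := hred.2
      simp only [List.prod_cons, List.prod_nil, mul_one, List.length_cons, List.length_nil] at h4 h5
      omega
    obtain ⟨c, hc, d, hd, e⟩ := (mem_cell P).1 hcell
    have hle' : len P s ≤ len P (s' * s) := by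
      have h5 := hred.2
      simp only [List.prod_cons, List.prod_nil, mul_one, List.length_cons, List.length_nil] at h5
      rw [h5, len_S P hs]; omega
    obtain ⟨p, hp, q, hq, e2⟩ := (mem_cell P).1 (mul_mem_cell_of_len_le P hs' hsN hd hle')
    have hmem : s * h * s ∈ cell P (s * (s' * s)) := by
      rw [show s * h * s = s * c * (s' * d * s) by rw [e]; group, e2,
        show s * c * (p * (s' * s) * q) = (s * (c * p) * (s' * s)) * q by group]
      exact mul_mem_cell_right P hq (mul_mem_cell_of_len_le P hs hn (mul_mem hc hp) hle)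
    have hM : s * h * s ∈ H ⊔ P.B := by
      have : s * h * s = (s * h * s⁻¹) * (s * s) := by group
      rw [this]
      exact mul_mem (Subgroup.mem_sup_left (Subgroup.Normal.conj_mem inferInstance h hh s))
        (Subgroup.mem_sup_right (P.sq_mem s hs))
    obtain ⟨p, hp, q, hq, e3⟩ := (mem_cell P).1 hmem
    have hword : (s :: [s', s]).prod ∈ H ⊔ P.B := by
      have h6 : p⁻¹ * (s * h * s) * q⁻¹ ∈ H ⊔ P.B := mul_mem (mul_mem
        (inv_mem (Subgroup.mem_sup_right hp)) hM) (inv_mem (Subgroup.mem_sup_right hq))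
      rw [e3] at h6
      simpa [mul_assoc] using h6
    exact hout (letters_mem P (H ⊔ P.B) le_sup_right _ h3
      (fun x hx => mul_mem (mul_mem hword (Subgroup.mem_sup_right hx)) (inv_mem hword)) s (by simp))
  · -- exchange: `s s' s` is `s` or `s'`
    simp only [List.prod_cons, List.prod_nil, mul_one] at he
    simp only [List.length_cons, List.length_nil] at hi
    obtain rfl | rfl : i = 0 ∨ i = 1 := by omega
    · exfalso
      simp only [List.eraseIdx_cons_zero, List.prod_cons, List.prod_nil, mul_one] at he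
      have h4 := eqv_trans P (eqv_symm P (eqv_mul_left P s he)) (eqv_S_mul_S_mul P hs hn)
      -- `s s ≡ s' s`
      have h5 : Eqv P 1 (s' * s) := eqv_trans P (eqv_symm P (eqv_sq P hs)) h4
      have h6 := (len_eq_zero P hn).2 (by simpa [Eqv] using h5)
      have h7 := hred.2
      simp only [List.prod_cons, List.prod_nil, mul_one, List.length_cons, List.length_nil] at h7
      omega
    · simp only [List.eraseIdx_cons_succ, List.eraseIdx_cons_zero, List.prod_cons, List.prod_nil,
        mul_one] at he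
      have h4 : Eqv P (s' * s) (s * s') :=
        eqv_trans P (eqv_symm P (eqv_S_mul_S_mul P hs hn)) (eqv_mul_left P s he)
      have h5 : (s * s')⁻¹ * (s' * s) ∈ P.B := eqv_symm P h4
      have h6 := P.conj_mem (s * s') (mul_mem hsN hs'N) _
        ⟨h5, P.N.mul_mem (P.N.inv_mem (P.N.mul_mem hsN hs'N)) hn⟩
      simpa [mul_assoc] using h6

theorem isSimpleGroup_of_bnPair [Nontrivial G] (hirr : P.Irreducible)
    (hsolv : Group.IsSolvable P.B) (hperf : commutator G = ⊤) (hcore : P.B.normalCore = ⊥) :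
    IsSimpleGroup G := by
  refine ⟨fun H hH => ?_⟩
  set J : Set G := P.S ∩ ((H ⊔ P.B : Subgroup G) : Set G) with hJdef
  have hHJ : H ⊔ P.B = P.parabolic J := eq_parabolic P _ le_sup_right
  rcases Set.eq_empty_or_nonempty J with hJ | hJ
  · left
    have hle : H ≤ P.B := le_sup_left.trans (by rw [hHJ, hJ, parabolic_empty])
    rw [← le_bot_iff, ← hcore]
    exact Subgroup.normal_le_normalCore.2 hle
  · right
    have hJS : J = P.S := by
      by_contra hne
      have hne' : (P.S \ J).Nonempty := Set.sdiff_nonempty.2 fun h =>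
        hne (Set.Subset.antisymm Set.inter_subset_left h)
      obtain ⟨s', hs', s, hs, hc⟩ := hirr J Set.inter_subset_left hJ hne'
      exact hc (comm_of_normal P H hs'.1 hs.1 hs'.2 fun h => hs.2 ⟨hs.1, h⟩)
    have htop : H ⊔ P.B = ⊤ := by rw [hHJ, hJS, parabolic_S]
    by_contra hne
    have : Nontrivial (G ⧸ H) := QuotientGroup.nontrivial_iff.2 hne
    have hsurj : Function.Surjective ((QuotientGroup.mk' H).comp P.B.subtype) := by
      intro x
      obtain ⟨g, rfl⟩ := QuotientGroup.mk'_surjective H x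
      have hg : g ∈ (↑(H ⊔ P.B) : Set G) := by rw [htop]; trivial
      rw [Subgroup.normal_mul] at hg
      obtain ⟨h, hh, b, hb, rfl⟩ := Set.mem_mul.1 hg
      refine ⟨⟨b, hb⟩, ?_⟩
      simp [SetLike.mem_coe.1 hh]
    have hsol : Group.IsSolvable (G ⧸ H) := Group.isSolvable_of_surjective hsurj
    have hlt := Group.IsSolvable.commutator_lt_top_of_nontrivial (G := G ⧸ H)
    apply hlt.ne
    rw [eq_top_iff, ← MonoidHom.range_eq_top.2 (QuotientGroup.mk'_surjective H),
      MonoidHom.range_eq_map, ← hperf, commutator_def, Subgroup.map_commutator]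
    exact Subgroup.commutator_mono le_top le_top

/-- A (B,N)-pair of rank one gives a doubly transitive action on `G ⧸ B`. -/
theorem two_pretransitive_of_rank_one (h : P.rank = 1) :
    MulAction.IsMultiplyPretransitive G (G ⧸ P.B) 2 := by
  obtain ⟨hsub, ⟨⟨s, hs⟩⟩⟩ := (Nat.card_eq_one_iff_unique.1 (h : Nat.card P.S = 1))
  have hcell : ∀ g, g ∉ P.B → ∃ b ∈ P.B, (g : G ⧸ P.B) = ((b * s : G) : G ⧸ P.B) := by
    intro g hg
    obtain ⟨n, hn, hgn⟩ := exists_cell P g
    obtain ⟨L, hred, he⟩ := exists_reduced P hn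
    have hgL : g ∈ cell P L.prod := by rwa [cell_congr P he]
    have hLs : ∀ x ∈ L, x = s := fun x hx =>
      congrArg Subtype.val (hsub.elim (⟨x, hred.1 x hx⟩ : P.S) ⟨s, hs⟩)
    match L, hred, hLs, hgL with
    | [], _, _, hgL => exact absurd ((cell_one P).1 (by simpa using hgL)) hg
    | [x], _, hLs, hgL =>
      obtain rfl := hLs x (by simp)
      obtain ⟨b, hb, c, hc, rfl⟩ := (mem_cell P).1 (show g ∈ cell P x by simpa using hgL)
      exact ⟨b, hb, (QuotientGroup.eq).2 (by simpa [mul_assoc] using hc)⟩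
    | x :: y :: R, hred, hLs, _ =>
      exfalso
      obtain rfl := hLs x (by simp)
      obtain rfl := hLs y (by simp)
      have hw : IsWord P R := fun z hz => hred.1 z (by simp [hz])
      have := len_congr P (eqv_S_mul_S_mul P hs (hw.mem_N P))
      have := len_le P hw (eqv_refl P _)
      have h5 := hred.2
      simp only [List.prod_cons, List.length_cons] at h5
      omega
  rw [MulAction.is_two_pretransitive_iff]
  have key : ∀ a b : G ⧸ P.B, a ≠ b →
      ∃ g : G, g • ((1 : G) : G ⧸ P.B) = a ∧ g • ((s : G) : G ⧸ P.B) = b := by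
    intro a b hab
    obtain ⟨x, rfl⟩ := QuotientGroup.mk_surjective a
    obtain ⟨y, rfl⟩ := QuotientGroup.mk_surjective b
    obtain ⟨c, hc, e⟩ := hcell (x⁻¹ * y) fun h => hab ((QuotientGroup.eq).2 h)
    refine ⟨x * c, ?_, ?_⟩
    · change ((x * c * 1 : G) : G ⧸ P.B) = _
      exact (QuotientGroup.eq).2 (by simpa [mul_assoc] using inv_mem hc)
    · change ((x * c * s : G) : G ⧸ P.B) = _
      have := congrArg (fun z : G ⧸ P.B => x • z) e.symm
      simpa [mul_assoc] using this
  intro a b c d hab hcd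
  obtain ⟨g, hga, hgb⟩ := key a b hab
  obtain ⟨g', hgc, hgd⟩ := key c d hcd
  exact ⟨g' * g⁻¹, by rw [← hga, mul_smul, inv_smul_smul, hgc],
    by rw [← hgb, mul_smul, inv_smul_smul, hgd]⟩

open scoped Pointwise in
/-- A doubly transitive action gives a (B,N)-pair of rank one. -/
theorem bnPair_of_two_transitive {Ω : Type*} [MulAction G Ω]
    (h2 : MulAction.IsMultiplyPretransitive G Ω 2) {x y z : Ω} (hxy : x ≠ y) (hyz : y ≠ z)
    (hxz : x ≠ z) :
    ∃ Q : Cfsg.BNPair G, Q.B = MulAction.stabilizer G x ∧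
      Q.N = MulAction.stabilizer G ({x, y} : Set Ω) ∧ Q.rank = 1 := by
  rw [MulAction.is_two_pretransitive_iff] at h2
  obtain ⟨w, hwx, hwy⟩ := h2 hxy hxy.symm
  set B := MulAction.stabilizer G x with hB
  set N := MulAction.stabilizer G ({x, y} : Set Ω) with hN
  have hNiff : ∀ g, g ∈ N ↔ (g • x = x ∧ g • y = y) ∨ (g • x = y ∧ g • y = x) := by
    intro g
    rw [hN, MulAction.mem_stabilizer_iff]
    constructor
    · intro h
      have hx : g • x ∈ ({x, y} : Set Ω) := h ▸ Set.smul_mem_smul_set (Set.mem_insert x _)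
      have hy : g • y ∈ ({x, y} : Set Ω) :=
        h ▸ Set.smul_mem_smul_set (Set.mem_insert_of_mem _ (Set.mem_singleton y))
      simp only [Set.mem_insert_iff, Set.mem_singleton_iff] at hx hy
      rcases hx with hx | hx <;> rcases hy with hy | hy
      · exact absurd (smul_left_cancel g (hx.trans hy.symm)) hxy
      · exact Or.inl ⟨hx, hy⟩
      · exact Or.inr ⟨hx, hy⟩
      · exact absurd (smul_left_cancel g (hx.trans hy.symm)) hxy
    · rintro (⟨ha, hb⟩ | ⟨ha, hb⟩)
      · rw [Set.smul_set_insert, Set.smul_set_singleton, ha, hb]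
      · rw [Set.smul_set_insert, Set.smul_set_singleton, ha, hb, Set.pair_comm]
  have hwN : w ∈ N := (hNiff w).2 (Or.inr ⟨hwx, hwy⟩)
  have hwwB : w * w ∈ B := by simp [hB, mul_smul, hwx, hwy]
  -- decomposition
  have hdec : ∀ g : G, g ∈ B ∨ g ∈ DoubleCoset.doubleCoset w (B : Set G) B := by
    intro g
    by_cases hg : g • x = x
    · exact Or.inl hg
    · obtain ⟨b, hb1, hb2⟩ := h2 hxy (Ne.symm hg)
      refine Or.inr (DoubleCoset.mem_doubleCoset.2 ⟨b, hb1, w⁻¹ * b⁻¹ * g, ?_, by group⟩)
      have e1 : b⁻¹ • (g • x) = y := by rw [← hb2, inv_smul_smul]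
      simp [hB, mul_smul, e1, inv_smul_eq_iff, hwx]
  refine ⟨{ B := B, N := N, S := {w}, sup_eq_top := ?_, conj_mem := ?_, subset := ?_, sq_mem := ?_,
            inj := ?_, closure_sup := ?_, mul_mem_union := ?_, conj_ne := ?_ }, rfl, rfl, ?_⟩
  · rw [eq_top_iff]
    intro g _
    rcases hdec g with hg | hg
    · exact Subgroup.mem_sup_left hg
    · obtain ⟨a, ha, b, hb, rfl⟩ := DoubleCoset.mem_doubleCoset.1 hg
      exact mul_mem (mul_mem (Subgroup.mem_sup_left ha) (Subgroup.mem_sup_right hwN))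
        (Subgroup.mem_sup_left hb)
  · intro n hn t ht
    obtain ⟨htB, htN⟩ := ht
    have htx : t • x = x := htB
    have hty : t • y = y := by
      rcases (hNiff t).1 htN with h | h
      · exact h.2
      · exact absurd (htx.symm.trans h.1) hxy
    change (n * t * n⁻¹) • x = x
    rw [mul_smul, mul_smul]
    rcases (hNiff n).1 hn with ⟨h, h'⟩ | ⟨h, h'⟩
    · rw [inv_smul_eq_iff.2 h.symm, htx, h]
    · rw [inv_smul_eq_iff.2 h'.symm, hty, h']
  · simpa using hwN
  · simpa using hwwB
  · simp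
  · refine le_antisymm (sup_le ((Subgroup.closure_le _).2 (by simpa using hwN)) inf_le_right) ?_
    intro n hn
    rcases (hNiff n).1 hn with ⟨h, -⟩ | ⟨h, -⟩
    · exact Subgroup.mem_sup_right ⟨h, hn⟩
    · have hmem : w⁻¹ * n ∈ B ⊓ N :=
        ⟨by simp [hB, mul_smul, h, inv_smul_eq_iff, hwx], N.mul_mem (N.inv_mem hwN) hn⟩
      simpa using mul_mem (Subgroup.mem_sup_left (T := B ⊓ N) (Subgroup.subset_closure rfl :
        w ∈ Subgroup.closure ({w} : Set G))) (Subgroup.mem_sup_right hmem)
  · intro s hs n hn b hb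
    obtain rfl : s = w := hs
    rcases (hNiff n).1 hn with ⟨h, -⟩ | ⟨h, -⟩
    · exact Or.inl (DoubleCoset.mem_doubleCoset.2 ⟨1, one_mem _, n⁻¹ * b * n,
        mul_mem (mul_mem (inv_mem h) hb) h, by group⟩)
    · have hsn : s * n ∈ B := by simp [hB, mul_smul, h, hwy]
      rcases hdec (s * b * n) with hc | hc
      · exact Or.inl (DoubleCoset.mem_doubleCoset.2 ⟨s * b * n * (s * n)⁻¹,
          mul_mem hc (inv_mem hsn), 1, one_mem _, by group⟩)
      · right
        obtain ⟨p, hp, q, hq, e⟩ := DoubleCoset.mem_doubleCoset.1 hc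
        refine DoubleCoset.mem_doubleCoset.2 ⟨p, hp, n⁻¹ * s * q, mul_mem ?_ hq,
          by rw [e]; group⟩
        simp [hB, mul_smul, hwx, inv_smul_eq_iff, h]
  · intro s hs heq
    obtain rfl : s = w := hs
    obtain ⟨b, hb1, hb2⟩ := h2 hxy hxz
    have : s * b * s ∈ (B : Set G) := heq ▸ ⟨b, hb1, rfl⟩
    have h3 : s • b • y = x := by simpa [hB, mul_smul, hwx] using this
    rw [hb2] at h3
    exact hyz (smul_left_cancel s (hwy.trans h3.symm))
  · show Nat.card ({w} : Set G) = 1
    simp

end Cfsg.Agent.BN
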