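import Cfsg.Agent.Lib.BNPair.Basic

/-!
# Standard parabolic subgroups of a (B,N)-pair
-/

set_option autoImplicit false

namespace Cfsg.Agent.BN

open scoped Pointwise

variable {G : Type*} [Group G] (P : Cfsg.BNPair G)

theorem B_le_parabolic (J : Set G) : P.B ≤ P.parabolic J := le_sup_left

theorem mem_parabolic_of_mem {J : Set G} {s : G} (hs : s ∈ J) : s ∈ P.parabolic J :=
  (le_sup_right : Subgroup.closure J ≤ P.parabolic J) (Subgroup.subset_closure hs)

theorem closure_le_N {J : Set G} (hJ : J ⊆ P.S) : Subgroup.closure J ≤ P.N :=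
  (Subgroup.closure_le _).2 fun _ hx => S_mem_N P (hJ hx)

theorem cell_subset_parabolic {J : Set G} {n x : G} (hn : n ∈ P.parabolic J) (hx : x ∈ cell P n) :
    x ∈ P.parabolic J := by
  obtain ⟨a, ha, b, hb, rfl⟩ := (mem_cell P).1 hx
  exact mul_mem (mul_mem (B_le_parabolic P J ha) hn) (B_le_parabolic P J hb)

/-- `B W_J B` is the parabolic subgroup `P_J`. -/
theorem mem_parabolic_iff {J : Set G} (hJ : J ⊆ P.S) (g : G) :
    g ∈ P.parabolic J ↔ ∃ n ∈ Subgroup.closure J, g ∈ cell P n := by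
  refine ⟨fun hg => ?_, fun ⟨n, hn, hg⟩ =>
    cell_subset_parabolic P ((le_sup_right : Subgroup.closure J ≤ P.parabolic J) hn) hg⟩
  set U : Set G := {x | ∃ n ∈ Subgroup.closure J, x ∈ cell P n} with hU
  have hB : ∀ b ∈ P.B, ∀ x ∈ U, b * x ∈ U := fun b hb x ⟨n, hn, hx⟩ =>
    ⟨n, hn, mul_mem_cell_left P hb hx⟩
  have hS : ∀ s ∈ J, ∀ x ∈ U, s * x ∈ U := by
    rintro s hs x ⟨n, hn, hx⟩
    rcases mul_cell_subset P (hJ hs) (closure_le_N P hJ hn) (self_mem_cell P s) hx with h | h
    · exact ⟨s * n, mul_mem (Subgroup.subset_closure hs) hn, h⟩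
    · exact ⟨n, hn, h⟩
  have hle : P.parabolic J ≤ MulAction.stabilizer G U := by
    refine sup_le ?_ ((Subgroup.closure_le _).2 ?_)
    · intro b hb
      rw [MulAction.mem_stabilizer_iff]
      ext x
      rw [Set.mem_smul_set_iff_inv_smul_mem]
      exact ⟨fun h => by simpa using hB b hb _ h, fun h => hB _ (inv_mem hb) x h⟩
    · intro s hs
      change s ∈ MulAction.stabilizer G U
      rw [MulAction.mem_stabilizer_iff]
      ext x
      rw [Set.mem_smul_set_iff_inv_smul_mem]
      refine ⟨fun h => by simpa using hS s hs _ h, fun h => ?_⟩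
      have h2 := hS s hs _ (hB (s * s)⁻¹ (inv_mem (P.sq_mem s (hJ hs))) x h)
      simpa [mul_assoc] using h2
  have h1 : (1 : G) ∈ U := ⟨1, one_mem _, self_mem_cell P 1⟩
  have h := MulAction.mem_stabilizer_iff.1 (hle hg)
  have hgU : g • (1 : G) ∈ g • U := Set.smul_mem_smul_set h1
  rw [h, smul_eq_mul, mul_one] at hgU
  exact hgU

/-- An element of `W_J` is represented by a word in `J`. -/
theorem exists_word_of_mem_closure {J : Set G} (hJ : J ⊆ P.S) {n : G}
    (hn : n ∈ Subgroup.closure J) : ∃ L : List G, (∀ x ∈ L, x ∈ J) ∧ Eqv P L.prod n := by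
  induction hn using Subgroup.closure_induction with
  | mem y hy => exact ⟨[y], by simp [hy], by simpa using eqv_refl P y⟩
  | one => exact ⟨[], by simp, by simpa using eqv_refl P 1⟩
  | mul y z hy hz ihy ihz =>
    obtain ⟨L, hL, he⟩ := ihy
    obtain ⟨M, hM, he'⟩ := ihz
    refine ⟨L ++ M, by simp [or_imp, forall_and]; exact ⟨hL, hM⟩, ?_⟩
    rw [List.prod_append]
    have hLw : IsWord P L := fun x hx => hJ (hL x hx)
    exact eqv_trans P (eqv_mul_left P _ he')
      (eqv_mul_right P he (hLw.mem_N P) (closure_le_N P hJ hy) (closure_le_N P hJ hz))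
  | inv y hy ih =>
    obtain ⟨L, hL, he⟩ := ih
    have hLw : IsWord P L := fun x hx => hJ (hL x hx)
    exact ⟨L.reverse, by simpa using hL, eqv_trans P (eqv_symm P (reverse_prod_eqv P hLw))
      (eqv_inv P he (hLw.mem_N P) (closure_le_N P hJ hy))⟩

theorem parabolic_inter_S {J : Set G} (hJ : J ⊆ P.S) {s : G} (hs : s ∈ P.S) :
    s ∈ P.parabolic J ↔ s ∈ J := by
  refine ⟨fun h => ?_, mem_parabolic_of_mem P⟩
  obtain ⟨n, hn, hsn⟩ := (mem_parabolic_iff P hJ s).1 h
  have hsN := S_mem_N P hs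
  have he := eqv_of_cell_eq P hsN (closure_le_N P hJ hn) (cell_eq_of_mem P hsn)
  obtain ⟨L, hL, hLn⟩ := exists_word_of_mem_closure P hJ hn
  obtain ⟨R, hR, hred, hRe⟩ := exists_reduced_sublist P (fun x hx => hJ (hL x hx))
  have hRs : Eqv P R.prod s := eqv_trans P hRe (eqv_trans P hLn (eqv_symm P he))
  have hlen : R.length = 1 := by rw [← hred.2, len_congr P hRs, len_S P hs]
  obtain ⟨r, rfl⟩ := List.length_eq_one_iff.1 hlen
  have hrJ : r ∈ J := hL r (hR.subset (by simp))
  rw [← P.inj r (hJ hrJ) s hs (by simpa [Eqv] using hRs)]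
  exact hrJ

theorem inter_N_eqv {J : Set G} {n n' : G} (h : Eqv P n n') (hn : n ∈ P.parabolic J) :
    n' ∈ P.parabolic J := by
  simpa using mul_mem hn (B_le_parabolic P J h)

/-- The letters of a reduced word lie in every subgroup containing `B` and `n B n⁻¹`. -/
theorem letters_mem (M : Subgroup G) (hM : P.B ≤ M) :
    ∀ (L : List G), Reduced P L → (∀ b ∈ P.B, L.prod * b * L.prod⁻¹ ∈ M) → ∀ x ∈ L, x ∈ M := by
  intro L
  induction L with
  | nil => simp
  | cons s L ih =>
    intro hred hconj x hx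
    obtain ⟨hs, hw⟩ := (isWord_cons P).1 hred.1
    have hred' : Reduced P L := reduced_of_append P (L := [s]) hred
    set n := (s :: L).prod with hn
    have hnN : n ∈ P.N := hred.1.mem_N P
    have hlt : len P (s * n) < len P n := by
      rw [hn, List.prod_cons, len_congr P (eqv_S_mul_S_mul P hs (hw.mem_N P)), hred'.2]
      have := hred.2
      simp only [List.prod_cons, List.length_cons] at this
      omega
    obtain ⟨b, hb, hbn⟩ := exists_mul_mem_cell_of_len_lt P hs hnN hlt
    obtain ⟨c, hc, d, hd, e⟩ := (mem_cell P).1 hbn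
    have hsM : s ∈ M := by
      have hkey : s = c * (n * d * n⁻¹) * b⁻¹ := by
        calc s = (s * b * n) * n⁻¹ * b⁻¹ := by group
          _ = (c * n * d) * n⁻¹ * b⁻¹ := by rw [e]
          _ = c * (n * d * n⁻¹) * b⁻¹ := by group
      rw [hkey]
      exact mul_mem (mul_mem (hM hc) (hconj d hd)) (inv_mem (hM hb))
    rcases List.mem_cons.1 hx with rfl | hx
    · exact hsM
    · refine ih hred' (fun q hq => ?_) x hx
      have := mul_mem (mul_mem (inv_mem hsM) (hconj q hq)) hsM
      simpa [hn, mul_assoc] using this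

theorem word_mem {L : List G} (M : Subgroup G) (h : ∀ x ∈ L, x ∈ M) : L.prod ∈ M :=
  M.list_prod_mem h

/-- `n` lies in every subgroup containing `B` and `n B n⁻¹`. -/
theorem mem_of_conj_le (M : Subgroup G) (hM : P.B ≤ M) {n : G} (hn : n ∈ P.N)
    (h : ∀ b ∈ P.B, n * b * n⁻¹ ∈ M) : n ∈ M := by
  obtain ⟨L, hred, he⟩ := exists_reduced P hn
  have hprod : L.prod ∈ M := word_mem M (letters_mem P M hM L hred fun b hb => by
    have h2 := h _ (mul_mem (mul_mem (eqv_symm P he) hb) (inv_mem (eqv_symm P he)))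
    simpa [mul_assoc] using h2)
  simpa using mul_mem hprod (hM he)

theorem exists_cell (g : G) : ∃ n ∈ P.N, g ∈ cell P n := by
  have htop : P.parabolic P.S = ⊤ := by
    rw [eq_top_iff, ← P.sup_eq_top]
    refine sup_le (B_le_parabolic P _) ?_
    conv_lhs => rw [← P.closure_sup]
    exact sup_le le_sup_right (inf_le_left.trans le_sup_left)
  obtain ⟨n, hn, hg⟩ := (mem_parabolic_iff P subset_rfl g).1 (htop ▸ Subgroup.mem_top g)
  exact ⟨n, closure_le_N P subset_rfl hn, hg⟩

/-- A subgroup containing `B` is a standard parabolic subgroup. -/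
theorem eq_parabolic (M : Subgroup G) (hM : P.B ≤ M) :
    M = P.parabolic (P.S ∩ (M : Set G)) := by
  refine le_antisymm (fun g hg => ?_) (sup_le hM ((Subgroup.closure_le _).2 Set.inter_subset_right))
  obtain ⟨n, hn, hgn⟩ := exists_cell P g
  have hnM : n ∈ M := by
    obtain ⟨a, ha, b, hb, rfl⟩ := (mem_cell P).1 hgn
    simpa [mul_assoc] using mul_mem (mul_mem (inv_mem (hM ha)) hg) (inv_mem (hM hb))
  obtain ⟨L, hred, he⟩ := exists_reduced P hn
  have hLM : L.prod ∈ M := by simpa using mul_mem hnM (hM (eqv_symm P he))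
  have hlet := letters_mem P M hM L hred fun b hb =>
    mul_mem (mul_mem hLM (hM hb)) (inv_mem hLM)
  refine cell_subset_parabolic P (inter_N_eqv P he (word_mem _ fun x hx => ?_)) hgn
  exact mem_parabolic_of_mem P ⟨hred.1 x hx, hlet x hx⟩

theorem parabolic_injective {J K : Set G} (hJ : J ⊆ P.S) (hK : K ⊆ P.S)
    (h : P.parabolic J = P.parabolic K) : J = K := by
  ext s
  exact ⟨fun hs => (parabolic_inter_S P hK (hJ hs)).1 (h ▸ mem_parabolic_of_mem P hs),
    fun hs => (parabolic_inter_S P hJ (hK hs)).1 (h ▸ mem_parabolic_of_mem P hs)⟩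

theorem parabolic_mono {J K : Set G} (h : J ⊆ K) : P.parabolic J ≤ P.parabolic K :=
  sup_le_sup_left (Subgroup.closure_mono h) _

theorem parabolic_le_iff {J K : Set G} (hJ : J ⊆ P.S) (hK : K ⊆ P.S) :
    P.parabolic J ≤ P.parabolic K ↔ J ⊆ K :=
  ⟨fun h _ hs => (parabolic_inter_S P hK (hJ hs)).1 (h (mem_parabolic_of_mem P hs)),
    parabolic_mono P⟩

theorem parabolic_inter {J K : Set G} (hJ : J ⊆ P.S) (hK : K ⊆ P.S) :
    P.parabolic J ⊓ P.parabolic K = P.parabolic (J ∩ K) := by
  conv_lhs => rw [eq_parabolic P (P.parabolic J ⊓ P.parabolic K)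
    (le_inf (B_le_parabolic P J) (B_le_parabolic P K))]
  congr 1
  ext s
  simp only [Set.mem_inter_iff, SetLike.mem_coe, Subgroup.mem_inf]
  exact ⟨fun ⟨hs, h1, h2⟩ => ⟨(parabolic_inter_S P hJ hs).1 h1, (parabolic_inter_S P hK hs).1 h2⟩,
    fun ⟨h1, h2⟩ => ⟨hJ h1, mem_parabolic_of_mem P h1, mem_parabolic_of_mem P h2⟩⟩

theorem eq_of_conj {J K : Set G} (g : G)
    (h : (P.parabolic J).map (MulAut.conj g).toMonoidHom = P.parabolic K) :
    P.parabolic J = P.parabolic K ∧ g ∈ P.parabolic K := by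
  obtain ⟨n, hn, hgn⟩ := exists_cell P g
  obtain ⟨a, ha, b, hb, rfl⟩ := (mem_cell P).1 hgn
  have hmem : ∀ x ∈ P.parabolic J, a * n * b * x * (a * n * b)⁻¹ ∈ P.parabolic K := by
    intro x hx
    rw [← h]
    exact Subgroup.mem_map_of_mem _ hx
  have hn' : ∀ x ∈ P.parabolic J, n * x * n⁻¹ ∈ P.parabolic K := by
    intro x hx
    have h1 := hmem (b⁻¹ * x * b) (mul_mem (mul_mem (inv_mem (B_le_parabolic P J hb)) hx)
      (B_le_parabolic P J hb))
    have h2 := mul_mem (mul_mem (inv_mem (B_le_parabolic P K ha)) h1) (B_le_parabolic P K ha)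
    simpa [mul_assoc] using h2
  have hnK : n ∈ P.parabolic K :=
    mem_of_conj_le P _ (B_le_parabolic P K) hn fun x hx => hn' x (B_le_parabolic P J hx)
  have hgK : a * n * b ∈ P.parabolic K :=
    mul_mem (mul_mem (B_le_parabolic P K ha) hnK) (B_le_parabolic P K hb)
  refine ⟨le_antisymm (fun x hx => ?_) (fun x hx => ?_), hgK⟩
  · have h2 := mul_mem (mul_mem (inv_mem hgK) (hmem x hx)) hgK
    simpa [mul_assoc] using h2
  · have h2 : a * n * b * x * (a * n * b)⁻¹ ∈ (P.parabolic J).map (MulAut.conj (a * n * b)).toMonoidHom := by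
      rw [h]; exact mul_mem (mul_mem hgK hx) (inv_mem hgK)
    obtain ⟨y, hy, e⟩ := h2
    have : y = x := (MulAut.conj (a * n * b)).injective e
    exact this ▸ hy

theorem normalizer_parabolic (J : Set G) :
    Subgroup.normalizer (P.parabolic J : Set G) = P.parabolic J := by
  refine le_antisymm (fun g hg => ?_) Subgroup.le_normalizer
  refine (eq_of_conj P (J := J) (K := J) g ?_).2
  ext x
  rw [Subgroup.mem_normalizer_iff] at hg
  simp only [Subgroup.mem_map, MulEquiv.coe_toMonoidHom, MulAut.conj_apply]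
  constructor
  · rintro ⟨y, hy, rfl⟩; exact (hg y).1 hy
  · intro hx
    exact ⟨g⁻¹ * x * g, (hg _).2 (by simpa [mul_assoc] using hx), by group⟩

end Cfsg.Agent.BN
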