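import Cfsg.Prelude.Def_LieExceptional

/-!
# Abstract theory of (B,N)-pairs: double cosets, length, exchange
-/

set_option autoImplicit false

namespace Cfsg.Agent.BN

open scoped Pointwise

variable {G : Type*} [Group G] (P : Cfsg.BNPair G)

/-- The double coset `B g B`. -/
def cell (g : G) : Set G := DoubleCoset.doubleCoset g (P.B : Set G) P.B

theorem mem_cell {g x : G} : x ∈ cell P g ↔ ∃ b ∈ P.B, ∃ b' ∈ P.B, x = b * g * b' :=
  DoubleCoset.mem_doubleCoset

theorem self_mem_cell (g : G) : g ∈ cell P g := DoubleCoset.mem_doubleCoset_self _ _ _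

theorem cell_eq_of_mem {g x : G} (h : x ∈ cell P g) : cell P x = cell P g :=
  DoubleCoset.doubleCoset_eq_of_mem h

theorem mul_mem_cell_left {g x b : G} (hb : b ∈ P.B) (h : x ∈ cell P g) : b * x ∈ cell P g := by
  obtain ⟨c, hc, d, hd, rfl⟩ := (mem_cell P).1 h
  exact (mem_cell P).2 ⟨b * c, P.B.mul_mem hb hc, d, hd, by group⟩

theorem mul_mem_cell_right {g x b : G} (hb : b ∈ P.B) (h : x ∈ cell P g) : x * b ∈ cell P g := by
  obtain ⟨c, hc, d, hd, rfl⟩ := (mem_cell P).1 h
  exact (mem_cell P).2 ⟨c, hc, d * b, P.B.mul_mem hd hb, by group⟩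

theorem cell_congr {g h : G} (hgh : g⁻¹ * h ∈ P.B) : cell P g = cell P h := by
  refine (cell_eq_of_mem P ?_).symm
  exact (mem_cell P).2 ⟨1, P.B.one_mem, g⁻¹ * h, hgh, by group⟩

theorem inv_mem_cell {g x : G} (h : x ∈ cell P g) : x⁻¹ ∈ cell P g⁻¹ := by
  obtain ⟨c, hc, d, hd, rfl⟩ := (mem_cell P).1 h
  exact (mem_cell P).2 ⟨d⁻¹, P.B.inv_mem hd, c⁻¹, P.B.inv_mem hc, by group⟩

theorem cell_one {x : G} : x ∈ cell P 1 ↔ x ∈ P.B := by
  constructor
  · intro h
    obtain ⟨c, hc, d, hd, rfl⟩ := (mem_cell P).1 h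
    simpa using P.B.mul_mem hc hd
  · intro h
    exact (mem_cell P).2 ⟨x, h, 1, P.B.one_mem, by simp⟩

/-- `n` and `n'` agree modulo `B` (on the left cosets). -/
def Eqv (n n' : G) : Prop := n⁻¹ * n' ∈ P.B

theorem eqv_refl (n : G) : Eqv P n n := by simp [Eqv]

theorem eqv_symm {n n' : G} (h : Eqv P n n') : Eqv P n' n := by
  have := P.B.inv_mem h
  simpa [Eqv, mul_inv_rev] using this

theorem eqv_trans {n n' n'' : G} (h : Eqv P n n') (h' : Eqv P n' n'') : Eqv P n n'' := by
  have := P.B.mul_mem h h'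
  simpa [Eqv, mul_assoc] using this

theorem eqv_mul_left (a : G) {n n' : G} (h : Eqv P n n') : Eqv P (a * n) (a * n') := by
  simpa [Eqv, mul_assoc] using h

theorem eqv_mul_right {n n' m : G} (h : Eqv P n n') (hn : n ∈ P.N) (hn' : n' ∈ P.N) (hm : m ∈ P.N) :
    Eqv P (n * m) (n' * m) := by
  have := P.conj_mem m⁻¹ (P.N.inv_mem hm) (n⁻¹ * n') ⟨h, P.N.mul_mem (P.N.inv_mem hn) hn'⟩
  simpa [Eqv, mul_assoc] using this

theorem eqv_inv {n n' : G} (h : Eqv P n n') (hn : n ∈ P.N) (hn' : n' ∈ P.N) :
    Eqv P n⁻¹ n'⁻¹ := by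
  have h2 := eqv_mul_right P h hn hn' (P.N.inv_mem hn)
  have h3 := eqv_mul_left P n'⁻¹ h2
  exact eqv_symm P (by simpa using h3)

theorem eqv_sq {s : G} (hs : s ∈ P.S) : Eqv P (s * s) 1 := by
  simpa [Eqv] using P.B.inv_mem (P.sq_mem s hs)

theorem eqv_S_inv {s : G} (hs : s ∈ P.S) : Eqv P s⁻¹ s := by
  simpa [Eqv] using P.sq_mem s hs

theorem S_mem_N {s : G} (hs : s ∈ P.S) : s ∈ P.N := P.subset hs

theorem eqv_S_mul_S_mul {s n : G} (hs : s ∈ P.S) (hn : n ∈ P.N) : Eqv P (s * (s * n)) n := by
  have := eqv_mul_right P (eqv_sq P hs) (P.N.mul_mem (S_mem_N P hs) (S_mem_N P hs)) P.N.one_mem hn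
  simpa [mul_assoc] using this

theorem eqv_mul_S_mul_S {s n : G} (hs : s ∈ P.S) : Eqv P (n * s * s) n := by
  have := eqv_mul_left P n (eqv_sq P hs)
  simpa [mul_assoc] using this

theorem S_not_mem_B {s : G} (hs : s ∈ P.S) : s ∉ P.B := by
  intro h
  apply P.conj_ne s hs
  ext x
  constructor
  · rintro ⟨b, hb, rfl⟩
    exact P.B.mul_mem (P.B.mul_mem h hb) h
  · intro hx
    refine ⟨s⁻¹ * x * s⁻¹, P.B.mul_mem (P.B.mul_mem (P.B.inv_mem h) hx) (P.B.inv_mem h), ?_⟩
    group

/-- A word in the distinguished generators. -/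
def IsWord (L : List G) : Prop := ∀ x ∈ L, x ∈ P.S

theorem isWord_nil : IsWord P [] := by simp [IsWord]

theorem IsWord.mem_N {L : List G} (h : IsWord P L) : L.prod ∈ P.N :=
  P.N.list_prod_mem fun x hx => S_mem_N P (h x hx)

theorem isWord_cons {s : G} {L : List G} : IsWord P (s :: L) ↔ s ∈ P.S ∧ IsWord P L := by
  simp [IsWord]

theorem isWord_append {L L' : List G} : IsWord P (L ++ L') ↔ IsWord P L ∧ IsWord P L' := by
  simp [IsWord, or_imp, forall_and]

theorem IsWord.reverse {L : List G} (h : IsWord P L) : IsWord P L.reverse := by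
  simpa [IsWord] using h

theorem IsWord.sublist {L L' : List G} (h : IsWord P L) (hs : L'.Sublist L) : IsWord P L' :=
  fun x hx => h x (hs.subset hx)

theorem reverse_prod_eqv {L : List G} (h : IsWord P L) : Eqv P L.prod⁻¹ L.reverse.prod := by
  induction L with
  | nil => simpa using eqv_refl P 1
  | cons s L ih =>
    obtain ⟨hs, hL⟩ := (isWord_cons P).1 h
    have hr : L.reverse.prod ∈ P.N := (hL.reverse P).mem_N P
    have h1 := eqv_mul_right P (ih hL) (P.N.inv_mem (hL.mem_N P)) hr (P.N.inv_mem (S_mem_N P hs))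
    have h2 := eqv_mul_left P L.reverse.prod (eqv_S_inv P hs)
    simpa using eqv_trans P h1 h2

theorem exists_word {n : G} (hn : n ∈ P.N) : ∃ L, IsWord P L ∧ Eqv P L.prod n := by
  have hn' : n ∈ Subgroup.closure P.S ⊔ (P.B ⊓ P.N) := by rwa [P.closure_sup]
  have key : ∀ x ∈ Subgroup.closure (P.S ∪ (P.B ⊓ P.N : Subgroup G)),
      x ∈ P.N ∧ ∃ L, IsWord P L ∧ Eqv P L.prod x := by
    intro x hx
    induction hx using Subgroup.closure_induction with
    | mem y hy =>
      rcases hy with hy | hy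
      · exact ⟨S_mem_N P hy, [y], by simp [IsWord, hy], by simpa using eqv_refl P y⟩
      · exact ⟨hy.2, [], isWord_nil P, by simpa [Eqv] using hy.1⟩
    | one => exact ⟨P.N.one_mem, [], isWord_nil P, by simpa using eqv_refl P 1⟩
    | mul y z _ _ hy hz =>
      obtain ⟨hyN, L, hL, hLy⟩ := hy
      obtain ⟨hzN, M, hM, hMz⟩ := hz
      refine ⟨P.N.mul_mem hyN hzN, L ++ M, (isWord_append P).2 ⟨hL, hM⟩, ?_⟩
      rw [List.prod_append]
      exact eqv_trans P (eqv_mul_left P _ hMz) (eqv_mul_right P hLy (hL.mem_N P) hyN hzN)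
    | inv y _ hy =>
      obtain ⟨hyN, L, hL, hLy⟩ := hy
      exact ⟨P.N.inv_mem hyN, L.reverse, hL.reverse P,
        eqv_trans P (eqv_symm P (reverse_prod_eqv P hL)) (eqv_inv P hLy (hL.mem_N P) hyN)⟩
  refine (key n ?_).2
  rwa [Subgroup.closure_union, Subgroup.closure_eq]

/-- The length of an element of `N`: the least length of a word in the distinguished generators
agreeing with it modulo `B`. -/
noncomputable def len (n : G) : ℕ := sInf {k | ∃ L, L.length = k ∧ IsWord P L ∧ Eqv P L.prod n}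

theorem exists_word_len {n : G} (hn : n ∈ P.N) :
    ∃ L, L.length = len P n ∧ IsWord P L ∧ Eqv P L.prod n := by
  obtain ⟨L, hL, hLn⟩ := exists_word P hn
  exact Nat.sInf_mem (s := {k | ∃ L, L.length = k ∧ IsWord P L ∧ Eqv P L.prod n})
    ⟨L.length, L, rfl, hL, hLn⟩

theorem len_le {n : G} {L : List G} (hL : IsWord P L) (h : Eqv P L.prod n) :
    len P n ≤ L.length := Nat.sInf_le ⟨L, rfl, hL, h⟩

theorem len_congr {n n' : G} (h : Eqv P n n') : len P n = len P n' := by
  have key : ∀ L : List G, Eqv P L.prod n ↔ Eqv P L.prod n' := fun L =>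
    ⟨fun h' => eqv_trans P h' h, fun h' => eqv_trans P h' (eqv_symm P h)⟩
  simp only [len, key]

theorem len_one : len P 1 = 0 :=
  Nat.le_zero.1 (len_le P (L := []) (isWord_nil P) (by simpa using eqv_refl P 1))

theorem len_eq_zero {n : G} (hn : n ∈ P.N) : len P n = 0 ↔ n ∈ P.B := by
  constructor
  · intro h
    obtain ⟨L, hl, -, he⟩ := exists_word_len P hn
    obtain rfl : L = [] := List.eq_nil_of_length_eq_zero (by omega)
    simpa [Eqv] using he
  · intro h
    rw [len_congr P (n' := 1) (eqv_symm P (by simpa [Eqv] using h)), len_one]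

theorem len_inv_le {n : G} (hn : n ∈ P.N) : len P n⁻¹ ≤ len P n := by
  obtain ⟨L, hl, hw, he⟩ := exists_word_len P hn
  have h := eqv_trans P (eqv_symm P (reverse_prod_eqv P hw)) (eqv_inv P he (hw.mem_N P) hn)
  simpa [hl] using len_le P (hw.reverse P) h

theorem len_inv {n : G} (hn : n ∈ P.N) : len P n⁻¹ = len P n :=
  le_antisymm (len_inv_le P hn) (by simpa using len_inv_le P (P.N.inv_mem hn))

theorem len_S_mul_le {s n : G} (hs : s ∈ P.S) (hn : n ∈ P.N) :
    len P (s * n) ≤ len P n + 1 := by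
  obtain ⟨L, hl, hw, he⟩ := exists_word_len P hn
  have h := eqv_mul_left P s he
  simpa [hl] using len_le P (L := s :: L) ((isWord_cons P).2 ⟨hs, hw⟩) (by simpa using h)

theorem le_len_S_mul {s n : G} (hs : s ∈ P.S) (hn : n ∈ P.N) :
    len P n ≤ len P (s * n) + 1 := by
  have h := len_S_mul_le P hs (P.N.mul_mem (S_mem_N P hs) hn)
  rwa [len_congr P (eqv_S_mul_S_mul P hs hn)] at h

theorem len_mul_S_le {s n : G} (hs : s ∈ P.S) (hn : n ∈ P.N) :
    len P (n * s) ≤ len P n + 1 := by
  obtain ⟨L, hl, hw, he⟩ := exists_word_len P hn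
  have h := eqv_mul_right P he (hw.mem_N P) hn (S_mem_N P hs)
  simpa [hl] using len_le P (L := L ++ [s]) ((isWord_append P).2 ⟨hw, by simp [IsWord, hs]⟩)
    (by simpa using h)

theorem exists_first {n : G} (hn : n ∈ P.N) (h : 0 < len P n) :
    ∃ s ∈ P.S, ∃ m ∈ P.N, len P m + 1 = len P n ∧ Eqv P (s * m) n := by
  obtain ⟨L, hl, hw, he⟩ := exists_word_len P hn
  match L, hl, hw, he with
  | [], hl, _, _ => simp at hl; omega
  | s :: M, hl, hw, he =>
    obtain ⟨hs, hM⟩ := (isWord_cons P).1 hw
    refine ⟨s, hs, M.prod, hM.mem_N P, ?_, by simpa using he⟩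
    have h1 := len_le P hM (eqv_refl P M.prod)
    have h2 := len_S_mul_le P hs (hM.mem_N P)
    rw [len_congr P (n' := n) (by simpa using he)] at h2
    simp at hl
    omega

theorem exists_last {n : G} (hn : n ∈ P.N) (h : 0 < len P n) :
    ∃ s ∈ P.S, ∃ m ∈ P.N, len P m + 1 = len P n ∧ Eqv P (m * s) n := by
  obtain ⟨s, hs, m, hm, hl, he⟩ := exists_first P (P.N.inv_mem hn) (by rwa [len_inv P hn])
  refine ⟨s, hs, m⁻¹, P.N.inv_mem hm, by rwa [len_inv P hm, ← len_inv P hn], ?_⟩
  have h1 := eqv_inv P he (P.N.mul_mem (S_mem_N P hs) hm) (P.N.inv_mem hn)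
  have h2 := eqv_mul_left P m⁻¹ (eqv_symm P (eqv_S_inv P hs))
  simpa using eqv_trans P h2 (by simpa using h1)

/-- The axiom, in the form `C(s) C(n) ⊆ C(s n) ∪ C(n)`. -/
theorem mul_cell_subset {s n x y : G} (hs : s ∈ P.S) (hn : n ∈ P.N) (hx : x ∈ cell P s)
    (hy : y ∈ cell P n) : x * y ∈ cell P (s * n) ∪ cell P n := by
  obtain ⟨a, ha, b, hb, rfl⟩ := (mem_cell P).1 hx
  obtain ⟨c, hc, d, hd, rfl⟩ := (mem_cell P).1 hy
  have h := P.mul_mem_union s hs n hn (b * c) (P.B.mul_mem hb hc)
  have e : a * s * b * (c * n * d) = a * (s * (b * c) * n) * d := by group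
  rw [e]
  rcases h with h | h
  · exact Or.inl (mul_mem_cell_right P hd (mul_mem_cell_left P ha h))
  · exact Or.inr (mul_mem_cell_right P hd (mul_mem_cell_left P ha h))

/-- The right-hand version of the axiom. -/
theorem mul_cell_subset_right {s n x y : G} (hs : s ∈ P.S) (hn : n ∈ P.N) (hx : x ∈ cell P n)
    (hy : y ∈ cell P s) : x * y ∈ cell P (n * s) ∪ cell P n := by
  have hy' : y⁻¹ ∈ cell P s := cell_congr P (eqv_S_inv P hs) ▸ inv_mem_cell P hy
  have h := mul_cell_subset P hs (P.N.inv_mem hn) hy' (inv_mem_cell P hx)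
  rcases h with h | h
  · refine Or.inl ?_
    have h' := inv_mem_cell P h
    rw [cell_congr P (h := n * s)] at h'
    · simpa using h'
    · simpa [Eqv] using eqv_mul_left P n (eqv_S_inv P hs)
  · exact Or.inr (by simpa using inv_mem_cell P h)

theorem exists_mem_cell_S {s : G} (hs : s ∈ P.S) : ∃ b ∈ P.B, s * b * s ∈ cell P s := by
  by_contra hcon
  push Not at hcon
  have key : ∀ b ∈ P.B, s * b * s ∈ P.B := by
    intro b hb
    rcases P.mul_mem_union s hs s (S_mem_N P hs) b hb with h | h
    · change s * b * s ∈ cell P (s * s) at h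
      rw [cell_congr P (eqv_sq P hs)] at h
      exact (cell_one P).1 h
    · exact absurd h (hcon b hb)
  apply P.conj_ne s hs
  ext x
  constructor
  · rintro ⟨b, hb, rfl⟩
    exact key b hb
  · intro hx
    refine ⟨s⁻¹ * x * s⁻¹, ?_, by group⟩
    have hq := P.B.inv_mem (P.sq_mem s hs)
    have := P.B.mul_mem (P.B.mul_mem hq (key x hx)) hq
    simpa [mul_assoc] using this

/-- Uniqueness in the Bruhat decomposition. -/
theorem eqv_of_cell_eq {n n' : G} (hn : n ∈ P.N) (hn' : n' ∈ P.N) (h : cell P n = cell P n') :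
    Eqv P n n' := by
  have key : ∀ k, ∀ n ∈ P.N, ∀ n' ∈ P.N, len P n = k → len P n ≤ len P n' →
      cell P n = cell P n' → Eqv P n n' := by
    intro k
    induction k using Nat.strong_induction_on with
    | _ k ih =>
      intro n hn n' hn' hk hle h
      by_cases h0 : len P n = 0
      · have hB := (len_eq_zero P hn).1 h0
        have h1 : n' ∈ cell P n := h ▸ self_mem_cell P n'
        rw [cell_congr P (g := n) (h := 1) (by simpa using P.B.inv_mem hB)] at h1
        exact P.B.mul_mem (P.B.inv_mem hB) ((cell_one P).1 h1)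
      obtain ⟨s, hs, m, hm, hl, he⟩ := exists_first P hn (Nat.pos_of_ne_zero h0)
      have hsm : s * m ∈ cell P n' := by
        rw [← h, ← cell_congr P he]; exact self_mem_cell P _
      have hsi : s⁻¹ ∈ cell P s := cell_congr P (eqv_S_inv P hs) ▸ self_mem_cell P _
      have h2 := mul_cell_subset P hs hn' hsi hsm
      rw [inv_mul_cancel_left] at h2
      rcases h2 with h2 | h2
      · have hsn := P.N.mul_mem (S_mem_N P hs) hn'
        have e := cell_eq_of_mem P h2
        have hq : Eqv P m (s * n') := by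
          rcases le_total (len P m) (len P (s * n')) with hh | hh
          · exact ih (len P m) (by omega) m hm _ hsn rfl hh e
          · exact eqv_symm P (ih (len P (s * n')) (by omega) _ hsn m hm rfl hh e.symm)
        exact eqv_trans P (eqv_symm P he)
          (eqv_trans P (eqv_mul_left P s hq) (eqv_S_mul_S_mul P hs hn'))
      · have hq := ih (len P m) (by omega) m hm n' hn' rfl (by omega) (cell_eq_of_mem P h2)
        have := len_congr P hq
        omega
  rcases le_total (len P n) (len P n') with hh | hh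
  · exact key _ n hn n' hn' rfl hh h
  · exact eqv_symm P (key _ n' hn' n hn rfl hh h.symm)

theorem not_eqv_S_mul {s n : G} (hs : s ∈ P.S) (hn : n ∈ P.N) : ¬ Eqv P (s * n) n := by
  intro h
  have h2 := eqv_mul_right P h (P.N.mul_mem (S_mem_N P hs) hn) hn (P.N.inv_mem hn)
  apply S_not_mem_B P hs
  simpa [Eqv] using P.B.inv_mem (by simpa [Eqv] using h2 : s⁻¹ ∈ P.B)

/-- If `len (s n) ≥ len n` then `C(s) C(n) = C(s n)`. -/
theorem mul_mem_cell_of_len_le {s n b : G} (hs : s ∈ P.S) (hn : n ∈ P.N) (hb : b ∈ P.B)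
    (hl : len P n ≤ len P (s * n)) : s * b * n ∈ cell P (s * n) := by
  have key : ∀ k, ∀ n ∈ P.N, len P n = k → len P n ≤ len P (s * n) → ∀ b ∈ P.B,
      s * b * n ∈ cell P (s * n) := by
    intro k
    induction k using Nat.strong_induction_on with
    | _ k ih =>
      intro n hn hk hl b hb
      have hsN := S_mem_N P hs
      by_cases h0 : len P n = 0
      · have hB := (len_eq_zero P hn).1 h0
        rw [← cell_congr P (g := s) (h := s * n) (by simpa using hB)]
        exact mul_mem_cell_right P hB (mul_mem_cell_right P hb (self_mem_cell P s))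
      obtain ⟨r, hr, m, hm, hlm, he⟩ := exists_last P hn (Nat.pos_of_ne_zero h0)
      rcases P.mul_mem_union s hs n hn b hb with h | h
      · exact h
      exfalso
      have hmr := P.N.mul_mem hm (S_mem_N P hr)
      have hle : len P (s * n) ≤ len P (s * m) + 1 := by
        have := len_mul_S_le P hr (P.N.mul_mem hsN hm)
        rw [← len_congr P (eqv_mul_left P s he)]
        simpa [mul_assoc] using this
      have h1 := ih (len P m) (by omega) m hm rfl (by omega) b hb
      have h2 : s * b * (m * r) ∈ cell P n := by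
        have : s * b * (m * r) = (s * b * n) * (n⁻¹ * (m * r)) := by group
        rw [this]
        exact mul_mem_cell_right P (eqv_symm P he) h
      have hri : r⁻¹ ∈ cell P r := cell_congr P (eqv_S_inv P hr) ▸ self_mem_cell P _
      have h3 := mul_cell_subset_right P hr hn h2 hri
      rw [show s * b * (m * r) * r⁻¹ = s * b * m by group] at h3
      have hnr : Eqv P (n * r) m :=
        eqv_trans P (eqv_mul_right P (eqv_symm P he) hn hmr (S_mem_N P hr))
          (eqv_mul_S_mul_S P hr)
      rcases h3 with h3 | h3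
      · have e := eqv_of_cell_eq P (P.N.mul_mem hsN hm) (P.N.mul_mem hn (S_mem_N P hr))
          ((cell_eq_of_mem P h1).symm.trans (cell_eq_of_mem P h3))
        exact not_eqv_S_mul P hs hm (eqv_trans P e hnr)
      · have e := eqv_of_cell_eq P (P.N.mul_mem hsN hm) hn
          ((cell_eq_of_mem P h1).symm.trans (cell_eq_of_mem P h3))
        have := len_congr P (eqv_trans P (eqv_symm P (eqv_mul_left P s e))
          (eqv_S_mul_S_mul P hs hm))
        omega
  exact key _ n hn rfl hl b hb

theorem len_S_mul_ne {s n : G} (hs : s ∈ P.S) (hn : n ∈ P.N) : len P (s * n) ≠ len P n := by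
  intro h
  obtain ⟨b, hb, hc⟩ := exists_mem_cell_S P hs
  have hsn := P.N.mul_mem (S_mem_N P hs) hn
  have h2 : len P (s * n) ≤ len P (s * (s * n)) := by
    rw [len_congr P (eqv_S_mul_S_mul P hs hn), h]
  have hA := mul_mem_cell_of_len_le P hs hsn hb h2
  rw [cell_congr P (eqv_S_mul_S_mul P hs hn)] at hA
  obtain ⟨c, hc', d, hd, e⟩ := (mem_cell P).1 hc
  have hB : s * b * (s * n) ∈ cell P (s * n) := by
    rw [show s * b * (s * n) = c * (s * d * n) by rw [← mul_assoc, e]; group]
    exact mul_mem_cell_left P hc' (mul_mem_cell_of_len_le P hs hn hd h.ge)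
  exact not_eqv_S_mul P hs hn (eqv_of_cell_eq P hsn hn
    ((cell_eq_of_mem P hB).symm.trans (cell_eq_of_mem P hA)))

theorem exists_mul_mem_cell_of_len_lt {s n : G} (hs : s ∈ P.S) (hn : n ∈ P.N)
    (hl : len P (s * n) < len P n) : ∃ b ∈ P.B, s * b * n ∈ cell P n := by
  obtain ⟨b, hb, hc⟩ := exists_mem_cell_S P hs
  refine ⟨b * (s * s), P.B.mul_mem hb (P.sq_mem s hs), ?_⟩
  have hsn := P.N.mul_mem (S_mem_N P hs) hn
  have hle : len P (s * n) ≤ len P (s * (s * n)) := by
    rw [len_congr P (eqv_S_mul_S_mul P hs hn)]; omega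
  obtain ⟨c, hc', d, hd, e⟩ := (mem_cell P).1 hc
  rw [show s * (b * (s * s)) * n = c * (s * d * (s * n)) by
    calc s * (b * (s * s)) * n = (s * b * s) * (s * n) := by group
      _ = c * (s * d * (s * n)) := by rw [e]; group]
  have h := mul_mem_cell_left P hc' (mul_mem_cell_of_len_le P hs hsn hd hle)
  rwa [cell_congr P (eqv_S_mul_S_mul P hs hn)] at h

/-- A reduced word. -/
def Reduced (L : List G) : Prop := IsWord P L ∧ len P L.prod = L.length

theorem exists_reduced {n : G} (hn : n ∈ P.N) : ∃ L, Reduced P L ∧ Eqv P L.prod n := by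
  obtain ⟨L, hl, hw, he⟩ := exists_word_len P hn
  exact ⟨L, ⟨hw, by rw [len_congr P he, hl]⟩, he⟩

theorem len_S {s : G} (hs : s ∈ P.S) : len P s = 1 := by
  have h := len_le P (L := [s]) (n := s) (by simp [IsWord, hs]) (by simpa using eqv_refl P s)
  have h0 : len P s ≠ 0 := fun h0 => S_not_mem_B P hs ((len_eq_zero P (S_mem_N P hs)).1 h0)
  simp at h; omega

theorem len_prod_append_le {L M : List G} (hL : IsWord P L) (hM : IsWord P M) :
    len P (L ++ M).prod ≤ L.length + len P M.prod := by
  induction L with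
  | nil => simp
  | cons s L ih =>
    obtain ⟨hs, hw⟩ := (isWord_cons P).1 hL
    have h := len_S_mul_le P hs (((isWord_append P).2 ⟨hw, hM⟩).mem_N P)
    have := ih hw
    simp only [List.cons_append, List.prod_cons, List.length_cons]
    omega

theorem reduced_of_append {L M : List G} (h : Reduced P (L ++ M)) : Reduced P M := by
  obtain ⟨hw, hl⟩ := h
  obtain ⟨hL, hM⟩ := (isWord_append P).1 hw
  have h1 := len_le P hM (eqv_refl P _)
  have h2 := len_prod_append_le P hL hM
  simp only [List.length_append] at hl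
  exact ⟨hM, by omega⟩

theorem reduced_left_of_append_singleton {L : List G} {r : G} (h : Reduced P (L ++ [r])) :
    Reduced P L := by
  obtain ⟨hw, hl⟩ := h
  obtain ⟨hL, hr⟩ := (isWord_append P).1 hw
  refine ⟨hL, ?_⟩
  have h1 := len_le P hL (eqv_refl P _)
  have h2 := len_mul_S_le P (hr r (by simp)) (hL.mem_N P)
  simp at hl
  omega

/-- The exchange condition. -/
theorem exchange {s : G} {L : List G} (hs : s ∈ P.S) (hL : Reduced P L)
    (hlt : len P (s * L.prod) < L.length) :
    ∃ i < L.length, Eqv P (s * L.prod) (L.eraseIdx i).prod := by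
  induction L using List.reverseRecOn with
  | nil => simp at hlt
  | append_singleton L r ih =>
    have hr : r ∈ P.S := hL.1 r (by simp)
    have hLr := reduced_left_of_append_singleton P hL
    have hm := hLr.1.mem_N P
    have hmr : L.prod * r ∈ P.N := P.N.mul_mem hm (S_mem_N P hr)
    simp only [List.prod_append, List.prod_singleton] at hlt ⊢
    have hlen : len P (L.prod * r) = L.length + 1 := by simpa using hL.2
    simp only [List.length_append, List.length_singleton] at hlt ⊢
    by_cases hc : len P (s * L.prod) < L.length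
    · obtain ⟨i, hi, he⟩ := ih hLr hc
      refine ⟨i, by omega, ?_⟩
      rw [List.eraseIdx_append_of_lt_length hi, List.prod_append, List.prod_singleton, ← mul_assoc]
      exact eqv_mul_right P he (P.N.mul_mem (S_mem_N P hs) hm)
        ((hLr.1.sublist P (List.eraseIdx_sublist _ _)).mem_N P) (S_mem_N P hr)
    · refine ⟨L.length, by omega, ?_⟩
      rw [List.eraseIdx_append_of_length_le le_rfl]
      simp only [Nat.sub_self, List.eraseIdx_cons_zero, List.append_nil]
      obtain ⟨b, hb, hbn⟩ := exists_mul_mem_cell_of_len_lt P hs hmr (by omega)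
      have h1 := mul_mem_cell_of_len_le P hs hm hb (by rw [hLr.2]; omega)
      have hri : r⁻¹ ∈ cell P r := cell_congr P (eqv_S_inv P hr) ▸ self_mem_cell P _
      have h3 := mul_cell_subset_right P hr hmr hbn hri
      rw [show s * b * (L.prod * r) * r⁻¹ = s * b * L.prod by group] at h3
      have hsm := P.N.mul_mem (S_mem_N P hs) hm
      rcases h3 with h3 | h3
      · have e := eqv_of_cell_eq P hsm (P.N.mul_mem hmr (S_mem_N P hr))
          ((cell_eq_of_mem P h1).symm.trans (cell_eq_of_mem P h3))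
        exact absurd (eqv_trans P e (eqv_mul_S_mul_S P hr)) (not_eqv_S_mul P hs hm)
      · have e := eqv_of_cell_eq P hsm hmr
          ((cell_eq_of_mem P h1).symm.trans (cell_eq_of_mem P h3))
        exact eqv_trans P (eqv_symm P (eqv_mul_left P s e)) (eqv_S_mul_S_mul P hs hm)

theorem reduced_cons_or {s : G} {L : List G} (hs : s ∈ P.S) (hL : Reduced P L) :
    Reduced P (s :: L) ∨ ∃ i < L.length, Eqv P (s * L.prod) (L.eraseIdx i).prod := by
  have h1 := len_S_mul_le P hs (hL.1.mem_N P)
  have h2 := len_S_mul_ne P hs (hL.1.mem_N P)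
  rw [hL.2] at h1 h2
  rcases lt_or_ge (len P (s * L.prod)) L.length with h | h
  · exact Or.inr (exchange P hs hL h)
  · exact Or.inl ⟨(isWord_cons P).2 ⟨hs, hL.1⟩, by simp only [List.prod_cons, List.length_cons]; omega⟩

/-- Every word contains a reduced word with the same value. -/
theorem exists_reduced_sublist {L : List G} (hL : IsWord P L) :
    ∃ R, R.Sublist L ∧ Reduced P R ∧ Eqv P R.prod L.prod := by
  induction hk : L.length using Nat.strong_induction_on generalizing L with
  | _ k ih =>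
    match L, hL, hk with
    | [], hL, _ => exact ⟨[], List.Sublist.refl _, ⟨hL, by simp [len_one]⟩, eqv_refl P _⟩
    | s :: M, hL, hk =>
      obtain ⟨hs, hM⟩ := (isWord_cons P).1 hL
      simp only [List.length_cons] at hk
      obtain ⟨R, hR, hred, he⟩ := ih M.length (by omega) hM rfl
      rcases reduced_cons_or P hs hred with h | ⟨i, hi, hei⟩
      · exact ⟨s :: R, hR.cons_cons s, h, by simpa using eqv_mul_left P s he⟩
      · have hw := hred.1.sublist P (R.eraseIdx_sublist i)
        have hlen := List.length_eraseIdx_of_lt hi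
        obtain ⟨Q, hQ, hQred, hQe⟩ := ih (R.eraseIdx i).length
          (by have := hR.length_le; omega) hw rfl
        exact ⟨Q, ((hQ.trans (R.eraseIdx_sublist i)).trans hR).cons s, hQred,
          eqv_trans P hQe (eqv_trans P (eqv_symm P hei) (by simpa using eqv_mul_left P s he))⟩

end Cfsg.Agent.BN
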