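import Cfsg.Agent.Lib.BNPair.Basic

/-!
# The Weyl group of a (B,N)-pair is a Coxeter group
-/

set_option autoImplicit false

namespace Cfsg.Agent.BN

theorem prod_cancel {ι K : Type*} [Group K] (g : ι → K) (A B D : List ι) (s r : ι)
    (hr : g r * g r = 1) (hrel : g s * (B.map g).prod = (B.map g).prod * g r) :
    ((A ++ s :: (B ++ r :: D)).map g).prod = ((A ++ (B ++ D)).map g).prod := by
  simp only [List.map_append, List.map_cons, List.prod_append, List.prod_cons]
  congr 1
  rw [← mul_assoc (g s), hrel, mul_assoc (B.map g).prod, ← mul_assoc (g r) (g r), hr, one_mul]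

/-- The abstract argument: deletion condition implies the Coxeter presentation. -/
theorem coxeter_relator_trivial {ι W C : Type*} [Group W] [Group C] (σ : ι → W) (f : ι → C)
    (hf : ∀ i, f i * f i = 1) (hσ : ∀ i, σ i * σ i = 1) (hinj : Function.Injective σ)
    (hpow : ∀ i j (k : ℕ), (σ i * σ j) ^ k = 1 → (f i * f j) ^ k = 1)
    (heven : ∀ L : List ι, (L.map σ).prod = 1 → Even L.length)
    (hdel : ∀ L M : List ι, (L.map σ).prod = (M.map σ).prod → M.length < L.length →
      ∃ (X V V' : List ι) (s r : ι), L = X ++ s :: (V ++ r :: V') ∧
        σ s * (V.map σ).prod = (V.map σ).prod * σ r) :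
    ∀ L : List ι, (L.map σ).prod = 1 → (L.map f).prod = 1 := by
  have hinv : ∀ (D : List ι), (D.reverse.map σ).prod = (D.map σ).prod⁻¹ := by
    intro D
    induction D with
    | nil => simp
    | cons a D ih => simp [← ih, mul_inv_rev, inv_eq_of_mul_eq_one_right (hσ a)]
  have hinvf : ∀ (D : List ι), (D.reverse.map f).prod = (D.map f).prod⁻¹ := by
    intro D
    induction D with
    | nil => simp
    | cons a D ih => simp [← ih, mul_inv_rev, inv_eq_of_mul_eq_one_right (hf a)]
  intro L
  induction hn : L.length using Nat.strong_induction_on generalizing L with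
  | _ n ih =>
  intro hL
  by_contra hne
  obtain ⟨k, hk⟩ := heven L hL
  have hkpos : 0 < k := by
    rcases Nat.eq_zero_or_pos k with h | h
    · obtain rfl : L = [] := List.eq_nil_of_length_eq_zero (by omega)
      simp at hne
    · exact h
  have hsmall : ∀ R : List ι, R.length < 2 * k → (R.map σ).prod = 1 → (R.map f).prod = 1 :=
    fun R hR => ih R.length (by omega) R rfl
  -- every bad word of this length has equal "halves"
  have hE : ∀ R : List ι, R.length = 2 * k → (R.map σ).prod = 1 → (R.map f).prod ≠ 1 →
      ((R.take k).map σ).prod = (((R.drop 1).take k).map σ).prod := by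
    intro R hRl hR hRne
    set U := R.take (k + 1) with hU
    set D := R.drop (k + 1) with hD
    have hUD : R = U ++ D := (List.take_append_drop _ _).symm
    have hUlen : U.length = k + 1 := by rw [hU, List.length_take]; omega
    have hDlen : D.length = k - 1 := by rw [hD, List.length_drop]; omega
    have hUval : (U.map σ).prod = (D.reverse.map σ).prod := by
      rw [hinv]; apply eq_inv_of_mul_eq_one_left
      rw [← List.prod_append, ← List.map_append, ← hUD, hR]
    obtain ⟨X, V, V', s, r, hdec, hrel⟩ :=
      hdel U D.reverse hUval (by simp [hDlen, hUlen])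
    have hlen : X.length + (V.length + V'.length) + 2 = k + 1 := by
      rw [← hUlen, hdec]; simp; omega
    by_cases hcase : X.length = 0 ∧ V'.length = 0
    · obtain ⟨rfl, rfl⟩ : X = [] ∧ V' = [] :=
        ⟨List.eq_nil_of_length_eq_zero hcase.1, List.eq_nil_of_length_eq_zero hcase.2⟩
      have h1 : R.take k = s :: V := by
        have : R.take k = U.take k := by rw [hU, List.take_take]; simp
        rw [this, hdec]
        simp only [List.nil_append]
        rw [show k = (s :: V).length by simp at hlen ⊢; omega, ← List.cons_append, List.take_left]
      have h2 : (R.drop 1).take k = V ++ [r] := by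
        rw [hUD, hdec]
        simp only [List.nil_append, List.cons_append, List.drop_succ_cons, List.drop_zero]
        rw [show k = (V ++ [r]).length by simp at hlen ⊢; omega, List.take_left]
      rw [h1, h2]
      simpa using hrel
    · exfalso
      have hVlt : V.length + 1 < k := by omega
      have hR1 : ((((s :: V) ++ (V ++ [r]).reverse)).map σ).prod = 1 := by
        rw [List.map_append, List.prod_append, hinv, mul_inv_eq_one]
        simpa using hrel
      have hf1 := hsmall _ (by simp; omega) hR1
      rw [List.map_append, List.prod_append, hinvf, mul_inv_eq_one] at hf1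
      simp only [List.map_cons, List.prod_cons, List.map_append, List.prod_append, List.map_nil,
        List.prod_nil, mul_one] at hf1
      have hRd : R = X ++ s :: (V ++ r :: (V' ++ D)) := by rw [hUD, hdec]; simp
      have hcf := prod_cancel f X V (V' ++ D) s r (hf r) hf1
      have hcσ := prod_cancel σ X V (V' ++ D) s r (hσ r) hrel
      rw [← hRd] at hcf hcσ
      apply hRne
      rw [hcf]
      exact hsmall _ (by simp [hDlen]; omega) (by rw [← hcσ, hR])
  -- periodicity of bad words
  have hper : ∀ R : List ι, R.length = 2 * k → (R.map σ).prod = 1 → (R.map f).prod ≠ 1 →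
      2 ≤ k ∧ R[0]? = R[2]? := by
    intro R hRl hR hRne
    match R, hRl, hR, hRne with
    | a :: T, hRl, hR, hRne =>
    have hTl : T.length = 2 * k - 1 := by simp at hRl; omega
    have e1 := hE (a :: T) hRl hR hRne
    by_cases hk1 : k = 1
    · subst hk1
      obtain ⟨b, rfl⟩ := List.length_eq_one_iff.1 (by simpa using hTl)
      have : a = b := hinj (by simpa using e1)
      subst this
      exact absurd (by simpa using hf a) hRne
    have hk2 : 2 ≤ k := by omega
    have hR' : ((T ++ [a]).map σ).prod = 1 := by
      simp only [List.map_cons, List.prod_cons] at hR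
      simpa using (mul_eq_one_comm.1 hR)
    have hR'ne : ((T ++ [a]).map f).prod ≠ 1 := by
      intro h
      apply hRne
      simp only [List.map_cons, List.prod_cons]
      exact mul_eq_one_comm.1 (by simpa using h)
    have e2 := hE (T ++ [a]) (by simp; omega) hR' hR'ne
    match T, hTl with
    | [], hTl => simp at hTl; omega
    | [_], hTl => simp at hTl; omega
    | b :: c :: T', hTl =>
      have hT'l : T'.length = 2 * k - 3 := by simp at hTl; omega
      obtain ⟨j, rfl⟩ : ∃ j, k = j + 2 := ⟨k - 2, by omega⟩
      set Y' := T'.take (j + 1) with hY'
      have hY'len : Y'.length = j + 1 := by simp [hY']; omega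
      set X := b :: c :: T'.take j with hX
      have hXlen : X.length = j + 2 := by simp [hX]; omega
      simp only [List.take_succ_cons, List.drop_succ_cons, List.drop_zero, List.cons_append] at e1 e2
      rw [List.take_append_of_le_length (by omega), List.take_append_of_le_length (by omega)] at e2
      -- `e1`, `e2` are the two halving identities
      have eXY : (X.map σ).prod = σ c * (Y'.map σ).prod := by
        simpa [hX, hY'] using e2
      set L' := c :: (X ++ Y'.reverse) with hL'def
      have hL'σ : (L'.map σ).prod = 1 := by
        simp only [hL'def, List.map_cons, List.prod_cons, List.map_append, List.prod_append, hinv,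
          eXY, mul_assoc]
        rw [← mul_assoc (σ c), hσ, one_mul, mul_inv_cancel]
      by_cases hL'f : (L'.map f).prod = 1
      · exfalso
        have hfX : (X.map f).prod = f c * (Y'.map f).prod := by
          simp only [hL'def, List.map_cons, List.prod_cons, List.map_append, List.prod_append,
            hinvf] at hL'f
          rw [← mul_assoc, mul_inv_eq_one] at hL'f
          rw [← hL'f, ← mul_assoc, hf, one_mul]
        obtain ⟨e, D1, hD⟩ : ∃ e D1, T'.drop j = e :: D1 := by
          cases h : T'.drop j with
          | nil => rw [List.drop_eq_nil_iff] at h; omega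
          | cons e D1 => exact ⟨e, D1, rfl⟩
        have hY'e : Y' = T'.take j ++ [e] := by
          rw [hY', List.take_add, hD]; rfl
        have hT' : T' = T'.take j ++ e :: D1 := by rw [← hD, List.take_append_drop]
        have hLd : a :: b :: c :: T' = a :: (X ++ e :: D1) := by
          conv_lhs => rw [hT']
          simp [hX]
        have hcσ : ((a :: b :: c :: T').map σ).prod = ((a :: c :: (T'.take j ++ D1)).map σ).prod := by
          rw [hLd]
          simp only [List.map_cons, List.prod_cons, List.map_append, List.prod_append, eXY, hY'e,
            List.map_nil, List.prod_nil, mul_one, mul_assoc]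
          rw [← mul_assoc (σ e) (σ e), hσ, one_mul]
        have hcf : ((a :: b :: c :: T').map f).prod = ((a :: c :: (T'.take j ++ D1)).map f).prod := by
          rw [hLd]
          simp only [List.map_cons, List.prod_cons, List.map_append, List.prod_append, hfX, hY'e,
            List.map_nil, List.prod_nil, mul_one, mul_assoc]
          rw [← mul_assoc (f e) (f e), hf, one_mul]
        apply hRne
        rw [hcf]
        refine hsmall _ ?_ (by rw [← hcσ, hR])
        have := congrArg List.length hT'
        simp at this ⊢
        omega
      · have e3 := hE L' (by simp [hL'def, hXlen, hY'len]; omega) hL'σ hL'f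
        simp only [hL'def, List.take_succ_cons, List.drop_succ_cons, List.drop_zero] at e3
        rw [List.take_append_of_le_length (by omega), List.take_append_of_le_length (by omega),
          ← hXlen, List.take_length] at e3
        refine ⟨hk2, ?_⟩
        have hXtake : X.take (j + 1) = b :: (c :: T').take j := by
          cases j with
          | zero => simp [hX]
          | succ i => simp [hX, List.take_take]
        rw [hXtake] at e3
        have eX : (X.map σ).prod = σ b * (σ c * ((T'.take j).map σ).prod) := by simp [hX]
        have h13 := e1
        simp only [List.map_cons, List.prod_cons] at e3 h13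
        have : σ a = σ c := by
          have h : σ a * (σ b * (((c :: T').take j).map σ).prod)
              = σ c * (σ b * (((c :: T').take j).map σ).prod) := by
            rw [e3, h13, eX]
          exact mul_right_cancel h
        simp [hinj this]
  -- conclude: `L` alternates between two letters
  have hrot : ∀ i, i + 2 < L.length → L[i]? = L[i + 2]? := by
    intro i hi
    have hσi : ((L.drop i ++ L.take i).map σ).prod = 1 := by
      rw [List.map_append, List.prod_append]
      apply mul_eq_one_comm.1
      rw [← List.prod_append, ← List.map_append, List.take_append_drop, hL]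
    have hfi : ((L.drop i ++ L.take i).map f).prod ≠ 1 := by
      intro h
      apply hne
      rw [← List.take_append_drop i L, List.map_append, List.prod_append]
      apply mul_eq_one_comm.1
      simpa using h
    have h := (hper _ (by simp; omega) hσi hfi).2
    rw [List.getElem?_append_left (by simp; omega), List.getElem?_append_left (by simp; omega),
      List.getElem?_drop, List.getElem?_drop] at h
    simpa using h
  have halt : ∀ (k : ℕ) (L : List ι) (a b : ι), L.length = 2 * k →
      (∀ i, i + 2 < L.length → L[i]? = L[i + 2]?) →
      (0 < k → L[0]? = some a ∧ L[1]? = some b) →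
      L = (List.replicate k [a, b]).flatten := by
    intro k
    induction k with
    | zero => intro L a b hl _ _; simp at hl; simp [hl]
    | succ k ihk =>
      intro L a b hl hrot h0
      match L, hl with
      | x :: y :: T, hl =>
        obtain ⟨hx, hy⟩ := h0 (by omega)
        simp at hx hy hl
        subst hx hy
        rw [List.replicate_succ, List.flatten_cons]
        rw [← ihk T x y (by omega) (fun i hi => ?_) (fun hk0 => ?_)]
        · rfl
        · simpa using hrot (i + 2) (by simp; omega)
        · exact ⟨by simpa using (hrot 0 (by simp; omega)).symm,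
            by simpa using (hrot 1 (by simp; omega)).symm⟩
  match L, hn, hk with
  | [], _, hk => simp at hk; omega
  | [_], _, hk => simp at hk; omega
  | a :: b :: T, _, hk =>
    have hLeq := halt k (a :: b :: T) a b (by omega) hrot (fun _ => ⟨rfl, rfl⟩)
    rw [hLeq] at hne hL
    simp only [List.map_flatten, List.map_replicate, List.prod_flatten, List.map_cons, List.map_nil,
      List.prod_replicate, List.prod_cons, List.prod_nil, mul_one] at hne hL
    exact hne (hpow a b k hL)

variable {G : Type*} [Group G] (P : Cfsg.BNPair G)

/-- The Weyl group with its distinguished generators is a Coxeter system. -/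
theorem exists_coxeterSystem [hN : ((P.B ⊓ P.N).subgroupOf P.N).Normal] :
    ∃ (M : CoxeterMatrix P.S) (cs : CoxeterSystem M (P.N ⧸ (P.B ⊓ P.N).subgroupOf P.N)),
      ∀ s : P.S, cs.simple s = QuotientGroup.mk (⟨(s : G), P.subset s.2⟩ : P.N) := by
  classical
  let σ : P.S → P.N ⧸ (P.B ⊓ P.N).subgroupOf P.N := fun s =>
    QuotientGroup.mk' _ (⟨(s : G), P.subset s.2⟩ : P.N)
  have hmk : ∀ x y : P.N, (QuotientGroup.mk' ((P.B ⊓ P.N).subgroupOf P.N) x =
      QuotientGroup.mk' _ y) ↔ Eqv P (x : G) y := by
    intro x y
    rw [QuotientGroup.mk'_apply, QuotientGroup.mk'_apply, QuotientGroup.eq, Subgroup.mem_subgroupOf]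
    simp [Eqv, P.N.mul_mem, P.N.inv_mem, x.2, y.2]
  let lift : List P.S → P.N := fun L => (L.map fun s : P.S => (⟨(s : G), P.subset s.2⟩ : P.N)).prod
  have hval : ∀ L : List P.S, (L.map σ).prod = QuotientGroup.mk' _ (lift L) := fun L => by
    rw [map_list_prod, List.map_map]; rfl
  have hcoe : ∀ L : List P.S, ((lift L : P.N) : G) = (L.map Subtype.val).prod := fun L => by
    rw [← Subgroup.coe_subtype, map_list_prod, List.map_map]; rfl
  have hweq : ∀ L L' : List P.S, (L.map σ).prod = (L'.map σ).prod ↔
      Eqv P (L.map Subtype.val).prod (L'.map Subtype.val).prod := fun L L' => by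
    rw [hval, hval, hmk, hcoe, hcoe]
  have hW : ∀ L : List P.S, IsWord P (L.map Subtype.val) := fun L x hx => by
    obtain ⟨y, -, rfl⟩ := List.mem_map.1 hx; exact y.2
  have hsq : ∀ s, σ s * σ s = 1 := fun s => by
    rw [← map_mul]
    exact (hmk _ 1).2 (by simpa using eqv_sq P s.2)
  have hinj : Function.Injective σ := fun s t h => Subtype.ext (P.inj s s.2 t t.2 ((hmk _ _).1 h))
  have heven : ∀ L : List P.S, (L.map σ).prod = 1 → Even L.length := by
    intro L h
    have hpar : ∀ L : List P.S, Even (len P (L.map Subtype.val).prod + L.length) := by
      intro L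
      induction L with
      | nil => simp [len_one]
      | cons s L ih =>
        have hn := (hW L).mem_N P
        have h1 := len_S_mul_le P s.2 hn
        have h2 := le_len_S_mul P s.2 hn
        have h3 := len_S_mul_ne P s.2 hn
        simp only [List.map_cons, List.prod_cons, List.length_cons]
        rw [Nat.even_iff] at ih ⊢
        omega
    have he : Eqv P (L.map Subtype.val).prod 1 := (hweq L []).1 (by simpa using h)
    have h2 := hpar L
    rwa [len_congr P he, len_one, Nat.zero_add] at h2
  have hdel : ∀ L M : List P.S, (L.map σ).prod = (M.map σ).prod → M.length < L.length →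
      ∃ (X V V' : List P.S) (s r : P.S), L = X ++ s :: (V ++ r :: V') ∧
        σ s * (V.map σ).prod = (V.map σ).prod * σ r := by
    intro L
    induction L with
    | nil => intro M _ h; simp at h
    | cons s L ih =>
      intro M h hlen
      by_cases hL : len P (L.map Subtype.val).prod < L.length
      · obtain ⟨R, hR, hRe⟩ := exists_reduced P ((hW L).mem_N P)
        obtain ⟨R', hR'⟩ : ∃ R' : List P.S, R'.map Subtype.val = R := by
          exact ⟨R.attachWith _ hR.1, List.attachWith_map_subtype_val hR.1⟩
        have hlR : R'.length < L.length := by
          have := hR.2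
          rw [len_congr P hRe] at this
          rw [← List.length_map (f := Subtype.val) (as := R'), hR']
          omega
        obtain ⟨X, V, V', a, r, e, hr⟩ := ih R' ((hweq _ _).2 (by rw [hR']; exact eqv_symm P hRe)) hlR
        exact ⟨s :: X, V, V', a, r, by simp [e], hr⟩
      · have hred : Reduced P (L.map Subtype.val) := ⟨hW L, by
          have := len_le P (hW L) (eqv_refl P _)
          rw [List.length_map] at this ⊢; omega⟩
        rcases reduced_cons_or P s.2 hred with h2 | ⟨i, hi, he⟩
        · exfalso
          have h3 := h2.2
          have h4 := len_le P (hW M) (eqv_symm P ((hweq _ _).1 h))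
          simp only [List.map_cons, List.prod_cons, List.length_cons, List.length_map] at h3 h4 hlen
          omega
        · simp at hi
          have hL' : L = L.take i ++ L[i] :: L.drop (i + 1) := by
            rw [List.getElem_cons_drop, List.take_append_drop]
          have he2 : ((s :: L).map σ).prod = ((L.eraseIdx i).map σ).prod := by
            rw [hweq, ← List.eraseIdx_map, List.map_cons, List.prod_cons]
            exact he
          refine ⟨[], L.take i, L.drop (i + 1), s, L[i], by rw [← hL']; rfl, ?_⟩
          rw [List.eraseIdx_eq_take_drop_succ] at he2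
          conv_lhs at he2 => rw [hL']
          simp only [List.map_cons, List.map_append, List.prod_cons, List.prod_append] at he2
          rw [← mul_assoc, ← mul_assoc, mul_left_inj] at he2
          calc σ s * ((L.take i).map σ).prod
              = σ s * ((L.take i).map σ).prod * (σ L[i] * σ L[i]) := by rw [hsq, mul_one]
            _ = ((L.take i).map σ).prod * σ L[i] := by rw [← mul_assoc, he2]
  let M : CoxeterMatrix P.S :=
    { M := fun s t => orderOf (σ s * σ t)
      isSymm := Matrix.IsSymm.ext fun s t => by
        have hinv : ∀ s, (σ s)⁻¹ = σ s := fun s => inv_eq_of_mul_eq_one_right (hsq s)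
        rw [← orderOf_inv (σ t * σ s), mul_inv_rev, hinv, hinv]
      diagonal := fun s => by rw [hsq, orderOf_one]
      off_diagonal := fun s t hne h => hne (hinj (by
        have h1 := orderOf_eq_one_iff.1 h
        rw [← inv_eq_of_mul_eq_one_right h1, inv_eq_of_mul_eq_one_right (hsq s)])) }
  have hlift : M.IsLiftable σ := fun s t => pow_orderOf_eq_one (σ s * σ t)
  let φ := M.toCoxeterSystem.lift ⟨σ, hlift⟩
  have hφ : ∀ s, φ (M.toCoxeterSystem.simple s) = σ s :=
    fun s => M.toCoxeterSystem.lift_apply_simple hlift s
  have hword : ∀ L : List P.S, φ (M.toCoxeterSystem.wordProd L) = (L.map σ).prod := fun L => by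
    rw [CoxeterSystem.wordProd, map_list_prod, List.map_map]
    congr 1
    exact List.map_congr_left fun s _ => hφ s
  have hbij : Function.Bijective φ := by
    refine ⟨(injective_iff_map_eq_one φ).2 fun g hg => ?_, fun w => ?_⟩
    · obtain ⟨L, rfl⟩ := M.toCoxeterSystem.wordProd_surjective g
      rw [hword] at hg
      exact coxeter_relator_trivial σ M.toCoxeterSystem.simple
        M.toCoxeterSystem.simple_mul_simple_self hsq hinj
        (fun i j k hk => orderOf_dvd_iff_pow_eq_one.1 ((orderOf_dvd_of_pow_eq_one
          (M.toCoxeterSystem.simple_mul_simple_pow i j)).trans (orderOf_dvd_of_pow_eq_one hk)))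
        heven hdel L hg
    · obtain ⟨x, rfl⟩ := QuotientGroup.mk'_surjective _ w
      obtain ⟨L, hL, he⟩ := exists_word P x.2
      obtain ⟨L', hL'⟩ : ∃ L' : List P.S, L'.map Subtype.val = L :=
        ⟨L.attachWith _ hL, List.attachWith_map_subtype_val hL⟩
      refine ⟨M.toCoxeterSystem.wordProd L', ?_⟩
      rw [hword, hval, hmk, hcoe, hL']
      exact he
  exact ⟨M, M.toCoxeterSystem.map (MulEquiv.ofBijective φ hbij), fun s => hφ s⟩

end Cfsg.Agent.BN
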